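import Mathlib
import Groth.Prelude
import Groth.Agent.Lib.Helper8.FittExt.Minors
import Groth.Agent.Lib.Helper8.T1BC.Main

/-!
# Abstract lemmas: Fitting ideals and `Ext¹` of a module with a two-term free resolution
-/

set_option autoImplicit false
universe u
open CategoryTheory

namespace Groth.Agent.H8.FormalCI

open Module TensorProduct Groth.Agent.H8.T1BC Groth.Agent.H8.FittExt

/-- `Fitt_{r-c}(Ω) = Fitt_0(Ext¹(Ω, B))` for `0 → B^c → B^r → Ω → 0`. -/
theorem fitt_of_presentation {B : Type u} [CommRing B] {C F Ω : Type u}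
    [AddCommGroup C] [Module B C] [AddCommGroup F] [Module B F] [AddCommGroup Ω] [Module B Ω]
    (r c : ℕ) (bC : Basis (Fin c) B C) (bF : Basis (Fin r) B F)
    (i : C →ₗ[B] F) (π : F →ₗ[B] Ω)
    (hi : Function.Injective i) (hπ : Function.Surjective π) (hex : Function.Exact i π) :
    Fitt.ideal B Ω (r - c) =
      Fitt.ideal B (Abelian.Ext.{u} (ModuleCat.of B Ω) (ModuleCat.of B B) 1) 0 ∧
    ∃ y : Fin c → Abelian.Ext.{u} (ModuleCat.of B Ω) (ModuleCat.of B B) 1,
      Submodule.span B (Set.range y) = ⊤ := by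
  rcases subsingleton_or_nontrivial B with hsub | hnt
  · refine ⟨Ideal.ext fun x => ?_, fun _ => 0, ?_⟩
    · rw [Subsingleton.elim x 0]
      exact ⟨fun _ => Ideal.zero_mem _, fun _ => Ideal.zero_mem _⟩
    · rw [eq_top_iff]
      intro t _
      haveI := Module.subsingleton B
        (Abelian.Ext.{u} (ModuleCat.of B Ω) (ModuleCat.of B B) 1)
      rw [Subsingleton.elim t 0]
      exact Submodule.zero_mem _
  haveI : Module.Free B F := Module.Free.of_basis bF
  haveI : Module.Finite B F := Module.Finite.of_basis bF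
  have hcr : c ≤ r := by
    have h1 := LinearMap.finrank_le_finrank_of_injective hi
    rw [Module.finrank_eq_card_basis bC, Module.finrank_eq_card_basis bF, Fintype.card_fin,
      Fintype.card_fin] at h1
    exact h1
  let rel : Fin c → Fin r → B := fun j => bF.equivFun (i (bC j))
  have hxspan : Submodule.span B (Set.range fun i' => π (bF i')) = ⊤ := by
    rw [Set.range_comp', ← Submodule.map_span, bF.span_eq, Submodule.map_top,
      LinearMap.range_eq_top.mpr hπ]
  have hrelΩ : ∀ z : Fin r → B, (∑ i', z i' • π (bF i') = 0) ↔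
      z ∈ Submodule.span B (Set.range rel) := by
    intro z
    have h0 : ∑ i', z i' • π (bF i') = π (bF.equivFun.symm z) := by
      rw [Basis.equivFun_symm_apply, map_sum]
      simp_rw [map_smul]
    rw [h0, hex]
    constructor
    · rintro ⟨y, hy⟩
      have hy' : y ∈ Submodule.span B (Set.range bC) := bC.span_eq ▸ Submodule.mem_top
      obtain ⟨lam, rfl⟩ := (Submodule.mem_span_range_iff_exists_fun B).mp hy'
      have h1 : z = ∑ j, lam j • rel j := by
        rw [← bF.equivFun.apply_symm_apply z, ← hy, map_sum, map_sum]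
        simp_rw [map_smul]
        rfl
      rw [h1]
      exact Submodule.sum_mem _ fun j _ =>
        Submodule.smul_mem _ _ (Submodule.subset_span ⟨j, rfl⟩)
    · intro hz
      obtain ⟨lam, rfl⟩ := (Submodule.mem_span_range_iff_exists_fun B).mp hz
      refine ⟨∑ j, lam j • bC j, ?_⟩
      rw [map_sum, map_sum]
      refine Finset.sum_congr rfl fun j _ => ?_
      rw [map_smul, map_smul, LinearEquiv.symm_apply_apply]
  have hΩ := fitt_eq_span_minors (fun i' => π (bF i')) hxspan rel hrelΩ (r - c) c (by omega)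
  obtain ⟨q, hqs, hqk⟩ := exists_ext_one_presentation (Y := B) i π hi hπ hex
  let rel' : Fin r → Fin c → B := fun i' j => rel j i'
  have hicc : ∀ j, i (bC j) = ∑ i', rel j i' • bF i' := by
    intro j
    rw [← Basis.equivFun_symm_apply, LinearEquiv.symm_apply_apply]
  have hyspan : Submodule.span B (Set.range fun j => q (bC.coord j)) = ⊤ := by
    rw [eq_top_iff]
    intro t _
    obtain ⟨f, rfl⟩ := hqs t
    rw [← bC.sum_dual_apply_smul_coord f, map_sum]
    refine Submodule.sum_mem _ fun j _ => ?_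
    rw [map_smul]
    exact Submodule.smul_mem _ _ (Submodule.subset_span ⟨j, rfl⟩)
  refine ⟨?_, fun j => q (bC.coord j), hyspan⟩
  have hrelT : ∀ w : Fin c → B, (∑ j, w j • q (bC.coord j) = 0) ↔
      w ∈ Submodule.span B (Set.range rel') := by
    intro w
    have h0 : ∑ j, w j • q (bC.coord j) = q (∑ j, w j • bC.coord j) := by
      rw [map_sum]
      simp_rw [map_smul]
    have hΦ : ∀ j, (∑ j', w j' • bC.coord j') (bC j) = w j := by
      intro j
      rw [LinearMap.sum_apply, Finset.sum_eq_single j]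
      · rw [LinearMap.smul_apply, Basis.coord_apply, Basis.repr_self, Finsupp.single_eq_same,
          smul_eq_mul, mul_one]
      · intro j' _ hne
        rw [LinearMap.smul_apply, Basis.coord_apply, Basis.repr_self,
          Finsupp.single_eq_of_ne hne, smul_zero]
      · intro h
        exact absurd (Finset.mem_univ j) h
    rw [h0, hqk]
    constructor
    · rintro ⟨ψ, hψ⟩
      have h1 : w = ∑ i', ψ (bF i') • rel' i' := by
        funext j
        rw [← hΦ j, ← hψ, LinearMap.comp_apply, hicc j, map_sum, Finset.sum_apply]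
        refine Finset.sum_congr rfl fun i' _ => ?_
        rw [map_smul, Pi.smul_apply, smul_eq_mul, smul_eq_mul, mul_comm]
      rw [h1]
      exact Submodule.sum_mem _ fun i' _ =>
        Submodule.smul_mem _ _ (Submodule.subset_span ⟨i', rfl⟩)
    · intro hw
      obtain ⟨mu, rfl⟩ := (Submodule.mem_span_range_iff_exists_fun B).mp hw
      refine ⟨bF.constr B mu, ?_⟩
      refine bC.ext fun j => ?_
      rw [hΦ j, LinearMap.comp_apply, hicc j, map_sum, Finset.sum_apply]
      refine Finset.sum_congr rfl fun i' _ => ?_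
      rw [map_smul, Basis.constr_basis, Pi.smul_apply, smul_eq_mul, smul_eq_mul, mul_comm]
  have hT := fitt_eq_span_minors (fun j => q (bC.coord j)) hyspan rel' hrelT 0 c (Nat.sub_zero c)
  rw [hΩ, hT]
  congr 1
  ext d
  constructor
  · rintro ⟨ρ, e, rfl⟩
    refine ⟨e, ρ, ?_⟩
    rw [← Matrix.det_transpose]
    rfl
  · rintro ⟨ρ', e', rfl⟩
    refine ⟨e', ρ', ?_⟩
    rw [← Matrix.det_transpose]
    rfl

/-- base change of `Ext¹(-, P)` computed from a two-term resolution that stays injective. -/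
theorem baseChange_ext_one {P : Type u} [CommRing P] (Q : Type u) [CommRing Q] [Algebra P Q]
    {C F Ω : Type u} [AddCommGroup C] [Module P C] [AddCommGroup F] [Module P F]
    [AddCommGroup Ω] [Module P Ω]
    [Module.Finite P C] [Module.Projective P C] [Module.Finite P F] [Module.Projective P F]
    (i : C →ₗ[P] F) (π : F →ₗ[P] Ω) (hi : Function.Injective i) (hπ : Function.Surjective π)
    (hex : Function.Exact i π)
    {Ω' : Type u} [AddCommGroup Ω'] [Module Q Ω']
    (π' : Q ⊗[P] F →ₗ[Q] Ω') (hπ' : Function.Surjective π')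
    (hinj : Function.Injective (i.baseChange Q)) (hex' : Function.Exact (i.baseChange Q) π') :
    Nonempty (Q ⊗[P] Abelian.Ext.{u} (ModuleCat.of P Ω) (ModuleCat.of P P) 1 ≃ₗ[Q]
      Abelian.Ext.{u} (ModuleCat.of Q Ω') (ModuleCat.of Q Q) 1) := by
  obtain ⟨q, hqs, hqk⟩ := exists_ext_one_presentation (Y := P) i π hi hπ hex
  obtain ⟨q', hqs', hqk'⟩ := exists_ext_one_presentation (R := Q) (Y := Q)
    (i.baseChange Q) π' hinj hπ' hex'
  have hexq : Function.Exact i.dualMap q := fun φ =>
    (hqk φ).trans ⟨fun ⟨ψ, h⟩ => ⟨ψ, h⟩, fun ⟨ψ, h⟩ => ⟨ψ, h⟩⟩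
  have hexq' : Function.Exact (i.baseChange Q).dualMap q' := fun φ =>
    (hqk' φ).trans ⟨fun ⟨ψ, h⟩ => ⟨ψ, h⟩, fun ⟨ψ, h⟩ => ⟨ψ, h⟩⟩
  exact nonempty_baseChange_equiv_of_presentations i.dualMap q hqs hexq
    (i.baseChange Q).dualMap q' hqs' hexq'
    (dualBC (R := P) Q F) (dualBC (R := P) Q C)
    (dualBC_bijective (R := P) Q F).2
    (dualBC_bijective (R := P) Q C)
    (dualBC_naturality (R := P) Q i)

theorem mapBaseChange_bijective_of_eq (A P : Type u) [CommRing A] [CommRing P] [Algebra A P]
    (J : Ideal A) (𝔞 : Ideal P) (h : 𝔞 = J.map (algebraMap A P)) :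
    Function.Bijective (KaehlerDifferential.mapBaseChange A P (P ⧸ 𝔞)) := by
  subst h
  exact mapBaseChange_bijective_quotient_map A P J

section fittann

variable {R : Type*} [CommRing R] {M : Type*} [AddCommGroup M] [Module R M]

theorem fitt_zero_le_annihilator : Fitt.ideal R M 0 ≤ Module.annihilator R M := by
  unfold Fitt.ideal
  rw [Ideal.span_le]
  rintro d ⟨n, x, A, hx, hrel, rfl⟩
  rw [SetLike.mem_coe, Module.mem_annihilator]
  have hrel' : ∀ i, ∑ j, A i j • x j = 0 := fun i => hrel i (by rw [Nat.sub_zero]; exact i.2)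
  have hxj : ∀ j₀, A.det • x j₀ = 0 := by
    intro j₀
    have h1 := Matrix.adjugate_mul A
    calc A.det • x j₀ = ∑ j, ((A.det • (1 : Matrix (Fin n) (Fin n) R)) j₀ j) • x j := by
            simp [Matrix.smul_apply, Matrix.one_apply, ite_smul]
      _ = ∑ j, ((A.adjugate * A) j₀ j) • x j := by rw [h1]
      _ = ∑ j, ∑ i, (A.adjugate j₀ i * A i j) • x j := by
            simp_rw [Matrix.mul_apply, Finset.sum_smul]
      _ = ∑ i, A.adjugate j₀ i • ∑ j, A i j • x j := by
            rw [Finset.sum_comm]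
            simp_rw [Finset.smul_sum, mul_smul]
      _ = 0 := by simp_rw [hrel', smul_zero, Finset.sum_const_zero]
  intro m
  have hm : m ∈ Submodule.span R (Set.range x) := hx ▸ Submodule.mem_top
  induction hm using Submodule.span_induction with
  | mem y hy =>
    obtain ⟨j, rfl⟩ := hy
    exact hxj j
  | zero => exact smul_zero _
  | add y z _ _ hy hz => rw [smul_add, hy, hz, add_zero]
  | smul b y _ hy => rw [smul_comm, hy, smul_zero]

theorem pow_mem_fitt_zero (c : ℕ) (y : Fin c → M) (hy : Submodule.span R (Set.range y) = ⊤)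
    (s : R) (hs : ∀ m : M, s • m = 0) : s ^ c ∈ Fitt.ideal R M 0 := by
  refine Ideal.subset_span ⟨c, y, Matrix.diagonal (fun _ => s), hy, fun i _ => ?_, ?_⟩
  · simp [Matrix.diagonal_apply, ite_smul, hs]
  · rw [Matrix.det_diagonal, Finset.prod_const, Finset.card_univ, Fintype.card_fin]

end fittann

section precomplete

theorem isPrecomplete_pi {B : Type*} [CommRing B] (t : B) [IsPrecomplete (Ideal.span {t}) B]
    (r : ℕ) : IsPrecomplete (Ideal.span {t}) (Fin r → B) := by
  rw [isPrecomplete_iff]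
  intro f hf
  have hmem : ∀ (n : ℕ) (v : Fin r → B),
      v ∈ ((Ideal.span {t}) ^ n • ⊤ : Submodule B (Fin r → B)) ↔ ∀ j, ∃ b, t ^ n * b = v j := by
    intro n v
    rw [Ideal.span_singleton_pow, Submodule.ideal_span_singleton_smul,
      Submodule.mem_smul_pointwise_iff_exists]
    constructor
    · rintro ⟨w, -, rfl⟩ j
      exact ⟨w j, rfl⟩
    · intro h
      choose w hw using h
      exact ⟨w, Submodule.mem_top, funext fun j => hw j⟩
  have hmemB : ∀ (n : ℕ) (b : B),
      b ∈ ((Ideal.span {t}) ^ n • ⊤ : Submodule B B) ↔ ∃ b', t ^ n * b' = b := by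
    intro n b
    rw [Ideal.span_singleton_pow, Submodule.ideal_span_singleton_smul,
      Submodule.mem_smul_pointwise_iff_exists]
    constructor
    · rintro ⟨w, -, rfl⟩
      exact ⟨w, rfl⟩
    · rintro ⟨w, rfl⟩
      exact ⟨w, Submodule.mem_top, rfl⟩
  have hcomp : ∀ j, ∃ L : B,
      ∀ n, f n j ≡ L [SMOD ((Ideal.span {t}) ^ n • ⊤ : Submodule B B)] := by
    intro j
    apply IsPrecomplete.prec ‹_› (f := fun n => f n j)
    intro m n hmn
    rw [SModEq.sub_mem, hmemB]
    have h1 := hf hmn
    rw [SModEq.sub_mem, hmem] at h1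
    exact h1 j
  choose L hL using hcomp
  refine ⟨L, fun n => ?_⟩
  rw [SModEq.sub_mem, hmem]
  intro j
  have h1 := hL j n
  rw [SModEq.sub_mem, hmemB] at h1
  exact h1

end precomplete

section tensor

variable {P : Type*} [CommRing P] {M : Type*} [AddCommGroup M] [Module P M]

theorem exists_one_tmul (𝔞 : Ideal P) (z : (P ⧸ 𝔞) ⊗[P] M) :
    ∃ m : M, z = (1 : P ⧸ 𝔞) ⊗ₜ[P] m := by
  induction z using TensorProduct.induction_on with
  | zero => exact ⟨0, (TensorProduct.tmul_zero _ _).symm⟩
  | tmul q m =>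
    obtain ⟨p, rfl⟩ := Ideal.Quotient.mk_surjective q
    refine ⟨p • m, ?_⟩
    rw [← TensorProduct.smul_tmul, Algebra.smul_def, mul_one]
    rfl
  | add x y hx hy =>
    obtain ⟨m, rfl⟩ := hx
    obtain ⟨m', rfl⟩ := hy
    exact ⟨m + m', (TensorProduct.tmul_add _ _ _).symm⟩

theorem one_tmul_eq_zero_iff (s : P) (m : M) :
    (1 : P ⧸ Ideal.span {s}) ⊗ₜ[P] m = 0 ↔ ∃ m', s • m' = m := by
  constructor
  · intro h
    have h1 := congrArg (TensorProduct.quotTensorEquivQuotSMul M (Ideal.span {s})) h
    rw [map_zero, TensorProduct.quotTensorEquivQuotSMul_mk_one_tmul, Submodule.Quotient.mk_eq_zero,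
      Submodule.ideal_span_singleton_smul, Submodule.mem_smul_pointwise_iff_exists] at h1
    obtain ⟨m', -, rfl⟩ := h1
    exact ⟨m', rfl⟩
  · rintro ⟨m', rfl⟩
    rw [← TensorProduct.smul_tmul, Algebra.smul_def, mul_one, Ideal.Quotient.algebraMap_eq,
      Ideal.Quotient.eq_zero_iff_mem.mpr (Ideal.mem_span_singleton_self s),
      TensorProduct.zero_tmul]

end tensor

end Groth.Agent.H8.FormalCI
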