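import Mathlib

/-!
# Extending a derivation to an adic completion
-/

set_option autoImplicit false

namespace Groth.Agent.H8.FormalCI

open AdicCompletion

section ext

variable {S A : Type*} [CommRing S] [CommRing A] [Algebra S A] (I : Ideal A)
  (d : Derivation S A A)
  (hd : ∀ (n : ℕ) (x : A), x ∈ (I ^ n • ⊤ : Submodule A A) → d x ∈ (I ^ n • ⊤ : Submodule A A))

/-- the level-`n` map induced by `d`. -/
noncomputable def dn (n : ℕ) (q : A ⧸ (I ^ n • ⊤ : Submodule A A)) :
    A ⧸ (I ^ n • ⊤ : Submodule A A) :=
  Quotient.liftOn' q (fun x => Submodule.Quotient.mk (d x)) (fun x y h => by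
    rw [Submodule.Quotient.eq]
    have h1 : x - y ∈ (I ^ n • ⊤ : Submodule A A) := by
      rwa [← Submodule.quotientRel_def]
    rw [← map_sub]
    exact hd n _ h1)

theorem dn_mk (n : ℕ) (y : A) :
    dn I d hd n (Submodule.Quotient.mk y) = Submodule.Quotient.mk (d y) := rfl

/-- the extension of `d` to the completion. -/
noncomputable def dHat (x : AdicCompletion I A) : AdicCompletion I A :=
  ⟨fun n => dn I d hd n (x.val n), fun {m n} hmn => by
    obtain ⟨y, hy⟩ := Submodule.Quotient.mk_surjective _ (x.val n)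
    have hm : x.val m = Submodule.Quotient.mk y := by
      rw [← x.property hmn, ← hy]
      rfl
    show transitionMap I A hmn (dn I d hd n (x.val n)) = dn I d hd m (x.val m)
    rw [← hy, hm]
    rfl⟩

theorem dHat_val (x : AdicCompletion I A) (n : ℕ) :
    (dHat I d hd x).val n = dn I d hd n (x.val n) := rfl

theorem dHat_of (y : A) : dHat I d hd (of I A y) = of I A (d y) := by
  apply AdicCompletion.ext
  intro n
  rfl

theorem dHat_add (x y : AdicCompletion I A) :
    dHat I d hd (x + y) = dHat I d hd x + dHat I d hd y := by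
  apply AdicCompletion.ext
  intro n
  rw [val_add_apply, dHat_val, dHat_val, dHat_val, val_add_apply]
  obtain ⟨u, hu⟩ := Submodule.Quotient.mk_surjective _ (x.val n)
  obtain ⟨v, hv⟩ := Submodule.Quotient.mk_surjective _ (y.val n)
  rw [← hu, ← hv, ← Submodule.Quotient.mk_add, dn_mk, dn_mk, dn_mk, map_add,
    Submodule.Quotient.mk_add]

theorem dHat_smul (s : S) (x : AdicCompletion I A) :
    dHat I d hd (s • x) = s • dHat I d hd x := by
  apply AdicCompletion.ext
  intro n
  rw [val_smul_apply, dHat_val, dHat_val, val_smul_apply]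
  obtain ⟨u, hu⟩ := Submodule.Quotient.mk_surjective _ (x.val n)
  rw [← hu, ← Submodule.Quotient.mk_smul, dn_mk, dn_mk, Derivation.map_smul, Submodule.Quotient.mk_smul]

theorem dHat_mul (x y : AdicCompletion I A) :
    dHat I d hd (x * y) = x * dHat I d hd y + y * dHat I d hd x := by
  apply AdicCompletion.ext
  intro n
  rw [val_add_apply, val_mul, val_mul, dHat_val, dHat_val, dHat_val, val_mul]
  obtain ⟨u, hu⟩ := Submodule.Quotient.mk_surjective _ (x.val n)
  obtain ⟨v, hv⟩ := Submodule.Quotient.mk_surjective _ (y.val n)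
  rw [← hu, ← hv]
  show dn I d hd n (Submodule.Quotient.mk (u * v)) =
    Submodule.Quotient.mk (u * d v) + Submodule.Quotient.mk (v * d u)
  rw [dn_mk, Derivation.leibniz, Submodule.Quotient.mk_add]
  simp only [smul_eq_mul]

end ext

end Groth.Agent.H8.FormalCI
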