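import Mathlib
import Groth.Agent.Lib.Helper8.FormalCI.Deriv

/-!
# Partial derivatives on the `t`-adic completion of `k[[t]][T_1..T_r]`
-/

set_option autoImplicit false
universe u

namespace Groth.Agent.H8.FormalCI

open AdicCompletion MvPolynomial

variable (k : Type u) [Field k] (r : ℕ)

noncomputable abbrev A0 := MvPolynomial (Fin r) (PowerSeries k)
noncomputable abbrev tau0 : A0 k r := MvPolynomial.C (σ := Fin r) (PowerSeries.X (R := k))
noncomputable abbrev I0 : Ideal (A0 k r) := Ideal.span {tau0 k r}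
noncomputable abbrev At := AdicCompletion (I0 k r) (A0 k r)
noncomputable abbrev tau : At k r := algebraMap (PowerSeries k) (At k r) PowerSeries.X

theorem pow_smul_top_eq (n : ℕ) :
    ((I0 k r) ^ n • ⊤ : Submodule (A0 k r) (A0 k r)) = (I0 k r) ^ n := by
  ext x; simp

theorem pderiv_mem (j : Fin r) (n : ℕ) (x : A0 k r)
    (hx : x ∈ ((I0 k r) ^ n • ⊤ : Submodule (A0 k r) (A0 k r))) :
    pderiv j x ∈ ((I0 k r) ^ n • ⊤ : Submodule (A0 k r) (A0 k r)) := by
  rw [pow_smul_top_eq, Ideal.span_singleton_pow, Ideal.mem_span_singleton'] at hx ⊢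
  obtain ⟨y, rfl⟩ := hx
  refine ⟨pderiv j y, ?_⟩
  rw [← C_pow, mul_comm, C_mul', mul_comm, C_mul', Derivation.map_smul]

/-- the partial derivative `∂/∂T_j` on the completion. -/
noncomputable def pd (j : Fin r) : At k r → At k r :=
  dHat (I0 k r) (pderiv j) (pderiv_mem k r j)

theorem pd_of (j : Fin r) (p : A0 k r) :
    pd k r j (of (I0 k r) (A0 k r) p) = of (I0 k r) (A0 k r) (pderiv j p) :=
  dHat_of _ _ _ p

theorem pd_add (j : Fin r) (x y : At k r) : pd k r j (x + y) = pd k r j x + pd k r j y :=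
  dHat_add _ _ _ x y

theorem pd_smul (j : Fin r) (s : PowerSeries k) (x : At k r) :
    pd k r j (s • x) = s • pd k r j x :=
  dHat_smul _ _ _ s x

theorem pd_mul (j : Fin r) (x y : At k r) :
    pd k r j (x * y) = x * pd k r j y + y * pd k r j x :=
  dHat_mul _ _ _ x y

theorem pd_zero (j : Fin r) : pd k r j 0 = 0 := by
  have h := pd_add k r j 0 0
  rw [add_zero] at h
  exact left_eq_add.mp h

theorem pd_sum (j : Fin r) {ι : Type*} (s : Finset ι) (f : ι → At k r) :
    pd k r j (∑ i ∈ s, f i) = ∑ i ∈ s, pd k r j (f i) := by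
  classical
  induction s using Finset.induction_on with
  | empty => simp [pd_zero]
  | insert i s hi ih => rw [Finset.sum_insert hi, Finset.sum_insert hi, pd_add, ih]

theorem tau_eq : tau k r = of (I0 k r) (A0 k r) (tau0 k r) := rfl

theorem of_mul (x y : A0 k r) :
    of (I0 k r) (A0 k r) (x * y) = of (I0 k r) (A0 k r) x * of (I0 k r) (A0 k r) y :=
  map_mul (algebraMap (A0 k r) (At k r)) x y

theorem smul_eq_of_mul (y : A0 k r) (x : At k r) : y • x = of (I0 k r) (A0 k r) y * x := by
  apply AdicCompletion.ext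
  intro n
  rw [val_smul_apply, val_mul]
  obtain ⟨u, hu⟩ := Submodule.Quotient.mk_surjective _ (x.val n)
  rw [← hu]
  rfl

theorem of_pow (x : A0 k r) (m : ℕ) :
    of (I0 k r) (A0 k r) (x ^ m) = of (I0 k r) (A0 k r) x ^ m :=
  map_pow (algebraMap (A0 k r) (At k r)) x m

theorem pd_tau_pow_mul (j : Fin r) (m : ℕ) (a : At k r) :
    pd k r j (tau k r ^ m * a) = tau k r ^ m * pd k r j a := by
  rw [← map_pow, ← Algebra.smul_def, pd_smul, Algebra.smul_def]

theorem fg_I0 : (I0 k r).FG := ⟨{tau0 k r}, by simp⟩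

theorem exists_decomp (a : At k r) (m : ℕ) :
    ∃ (p : A0 k r) (a' : At k r), a = of (I0 k r) (A0 k r) p + tau k r ^ m * a' := by
  obtain ⟨p, hp⟩ := Submodule.Quotient.mk_surjective _ (a.val m)
  have h1 : a - of (I0 k r) (A0 k r) p ∈ LinearMap.ker (eval (I0 k r) (A0 k r) m) := by
    rw [LinearMap.mem_ker, map_sub, eval_apply, eval_of, ← hp]
    exact sub_self _
  rw [← pow_smul_top_eq_ker_eval (fg_I0 k r), Ideal.span_singleton_pow,
    Submodule.ideal_span_singleton_smul] at h1
  obtain ⟨a', -, ha'⟩ := (Submodule.mem_smul_pointwise_iff_exists _ _ _).mp h1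
  refine ⟨p, a', ?_⟩
  have h2 : (tau0 k r ^ m) • a' = tau k r ^ m * a' := by
    rw [smul_eq_of_mul, of_pow, ← tau_eq]
  rw [← h2, ha']
  ring

/-- reduction of coefficients modulo `t`. -/
noncomputable def red : A0 k r →+* MvPolynomial (Fin r) k :=
  MvPolynomial.map (PowerSeries.constantCoeff (R := k))

theorem ker_red : RingHom.ker (red k r) = I0 k r := by
  unfold red
  rw [MvPolynomial.ker_map]
  have h : RingHom.ker (PowerSeries.constantCoeff (R := k)) = Ideal.span {PowerSeries.X} := by
    ext x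
    rw [RingHom.mem_ker, Ideal.mem_span_singleton, PowerSeries.X_dvd_iff]
  rw [h, Ideal.map_span, Set.image_singleton]

theorem red_surjective : Function.Surjective (red k r) :=
  MvPolynomial.map_surjective _ PowerSeries.constantCoeff_surj

/-- reduction `Ã → k[T]` modulo `t`. -/
noncomputable def eps : At k r →+* MvPolynomial (Fin r) k :=
  (Ideal.Quotient.lift (I0 k r) (red k r) (fun x hx => by
    rw [← RingHom.mem_ker, ker_red]; exact hx)).comp (evalOneₐ (I0 k r)).toRingHom

theorem eps_of (p : A0 k r) : eps k r (of (I0 k r) (A0 k r) p) = red k r p := rfl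

theorem eps_surjective : Function.Surjective (eps k r) := by
  intro q
  obtain ⟨p, rfl⟩ := red_surjective k r q
  exact ⟨of _ _ p, eps_of k r p⟩

theorem eps_tau : eps k r (tau k r) = 0 := by
  rw [tau_eq, eps_of]
  unfold red
  rw [MvPolynomial.map_C, PowerSeries.constantCoeff_X, _root_.map_zero]

theorem ker_eps : RingHom.ker (eps k r) = Ideal.span {tau k r} := by
  ext a
  rw [RingHom.mem_ker, Ideal.mem_span_singleton']
  constructor
  · intro h
    obtain ⟨p, a', rfl⟩ := exists_decomp k r a 1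
    rw [map_add, map_mul, pow_one, eps_tau, zero_mul, add_zero, eps_of] at h
    have hp : p ∈ I0 k r := by rw [← ker_red]; exact h
    obtain ⟨y, rfl⟩ := Ideal.mem_span_singleton'.mp hp
    refine ⟨of _ _ y + a', ?_⟩
    rw [pow_one, of_mul, ← tau_eq]
    ring
  · rintro ⟨b, rfl⟩
    rw [map_mul, eps_tau, mul_zero]

theorem eps_pd (j : Fin r) (a : At k r) : eps k r (pd k r j a) = pderiv j (eps k r a) := by
  obtain ⟨p, a', rfl⟩ := exists_decomp k r a 1
  rw [pd_add, pd_of, pd_tau_pow_mul, map_add, map_add, eps_of, eps_of, map_mul, map_mul, pow_one,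
    eps_tau, zero_mul, zero_mul, add_zero, add_zero]
  exact (MvPolynomial.pderiv_map).symm

theorem isWeaklyRegular_eps {c : ℕ} (a : Fin c → At k r)
    (hreg : RingTheory.Sequence.IsRegular (At k r ⧸ Ideal.span {tau k r ^ (0 + 1)})
      ((List.ofFn a).map (Ideal.Quotient.mk (Ideal.span {tau k r ^ (0 + 1)})))) :
    RingTheory.Sequence.IsWeaklyRegular (MvPolynomial (Fin r) k)
      (List.ofFn (fun i => eps k r (a i))) := by
  have hK : Ideal.span {tau k r ^ (0 + 1)} = RingHom.ker (eps k r) := by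
    rw [ker_eps, zero_add, pow_one]
  let e : (At k r ⧸ Ideal.span {tau k r ^ (0 + 1)}) ≃+* MvPolynomial (Fin r) k :=
    (Ideal.quotEquivOfEq hK).trans (RingHom.quotientKerEquivOfSurjective (eps_surjective k r))
  have he : ∀ x, e (Ideal.Quotient.mk _ x) = eps k r x := fun x => rfl
  have hl : List.ofFn (fun i => eps k r (a i)) = (List.ofFn a).map (eps k r) := by
    rw [List.map_ofFn]
    rfl
  rw [hl]
  refine (AddEquiv.isWeaklyRegular_congr (e := e.toAddEquiv) ?_).mp hreg.toIsWeaklyRegular
  rw [List.forall₂_map_left_iff, List.forall₂_map_right_iff, List.forall₂_same]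
  intro x _ y
  show e (Ideal.Quotient.mk _ x • y) = eps k r x • e y
  rw [smul_eq_mul, smul_eq_mul, map_mul, he]

end Groth.Agent.H8.FormalCI
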