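import Mathlib
import Groth.Agent.Lib.Helper8.FormalCI.Partial

/-!
# Differentials of a quotient of the restricted power series ring: the Jacobian presentation
modulo every power of `t`
-/

set_option autoImplicit false
universe u

namespace Groth.Agent.H8.FormalCI

open AdicCompletion MvPolynomial

section chain

theorem deriv_aeval {S A M σ : Type*} [CommRing S] [CommRing A] [Algebra S A] [AddCommGroup M]
    [Module A M] [Module S M] [IsScalarTower S A M] [Fintype σ] [DecidableEq σ]
    (d : Derivation S A M) (x : σ → A) (p : MvPolynomial σ S) :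
    d (aeval x p) = ∑ j, aeval x (pderiv j p) • d (x j) := by
  induction p using MvPolynomial.induction_on with
  | C s =>
    simp only [aeval_C, Derivation.map_algebraMap, pderiv_C, _root_.map_zero, zero_smul,
      Finset.sum_const_zero]
  | add p q hp hq =>
    simp only [map_add, hp, hq, add_smul, Finset.sum_add_distrib]
  | mul_X p l hp =>
    rw [map_mul, aeval_X, Derivation.leibniz, hp]
    have h : ∀ j, aeval x (pderiv j (p * X l)) =
        aeval x p * (if l = j then 1 else 0) + x l * aeval x (pderiv j p) := by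
      intro j
      rw [Derivation.leibniz, pderiv_X, map_add, smul_eq_mul, smul_eq_mul, map_mul, map_mul,
        aeval_X, Pi.single_apply]
      split_ifs <;> simp
    simp_rw [h, add_smul, Finset.sum_add_distrib, mul_smul, ← Finset.smul_sum]
    congr 1
    simp [ite_smul]

end chain

section setting

variable (k : Type u) [Field k] (r c : ℕ) (a : Fin c → At k r)
  (B : Type u) [CommRing B] [Algebra (PowerSeries k) B]
  (ψ : At k r →ₐ[PowerSeries k] B)

local notation "tB" => algebraMap (PowerSeries k) B PowerSeries.X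

/-- the images of the variables. -/
noncomputable def xv (j : Fin r) : B := ψ (of (I0 k r) (A0 k r) (X j))

theorem psi_tau : ψ (tau k r) = tB := ψ.commutes _

theorem psi_of (p : A0 k r) : ψ (of (I0 k r) (A0 k r) p) = aeval (xv k r B ψ) p := by
  induction p using MvPolynomial.induction_on with
  | C s =>
    rw [aeval_C]
    exact ψ.commutes s
  | add p q hp hq => rw [map_add, map_add, map_add, hp, hq]
  | mul_X p l hp =>
    rw [of_mul, map_mul, map_mul, aeval_X, hp]
    rfl

/-- `∂/∂T_j` as a linear map. -/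
noncomputable def pdL (j : Fin r) : At k r →ₗ[PowerSeries k] At k r where
  toFun := pd k r j
  map_add' := pd_add k r j
  map_smul' := pd_smul k r j

/-- the gradient of an element of `Ã`, pushed to `B`. -/
noncomputable def gradL : At k r →ₗ[PowerSeries k] (Fin r → B) :=
  LinearMap.pi (fun j => ψ.toLinearMap ∘ₗ pdL k r j)

theorem gradL_apply (y : At k r) (j : Fin r) : gradL k r B ψ y j = ψ (pd k r j y) := rfl

/-- the map `B^r → Ω_{B/R}`, `e_j ↦ d x_j`. -/
noncomputable def pi0 : (Fin r → B) →ₗ[B] Ω[B⁄PowerSeries k] :=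
  Fintype.linearCombination B (fun j => KaehlerDifferential.D (PowerSeries k) B (xv k r B ψ j))

/-- the Jacobian map `B^c → B^r`. -/
noncomputable def iJ : (Fin c → B) →ₗ[B] (Fin r → B) :=
  Fintype.linearCombination B (fun i => gradL k r B ψ (a i))

theorem gradL_of (p : A0 k r) (j : Fin r) :
    gradL k r B ψ (of (I0 k r) (A0 k r) p) j = aeval (xv k r B ψ) (pderiv j p) := by
  rw [gradL_apply, pd_of, psi_of]

theorem gradL_tau_pow_mul (m : ℕ) (y : At k r) :
    gradL k r B ψ (tau k r ^ m * y) = tB ^ m • gradL k r B ψ y := by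
  funext j
  rw [gradL_apply, pd_tau_pow_mul, map_mul, map_pow, psi_tau, Pi.smul_apply, smul_eq_mul,
    gradL_apply]

theorem gradL_mul (y z : At k r) :
    gradL k r B ψ (y * z) = ψ y • gradL k r B ψ z + ψ z • gradL k r B ψ y := by
  funext j
  rw [gradL_apply, pd_mul, map_add, map_mul, map_mul]
  rfl

/-- the error term of the chain rule. -/
noncomputable def E0 (y : At k r) : Ω[B⁄PowerSeries k] :=
  KaehlerDifferential.D (PowerSeries k) B (ψ y) - pi0 k r B ψ (gradL k r B ψ y)

theorem E0_of (p : A0 k r) : E0 k r B ψ (of (I0 k r) (A0 k r) p) = 0 := by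
  unfold E0
  rw [psi_of, deriv_aeval, sub_eq_zero]
  unfold pi0
  rw [Fintype.linearCombination_apply]
  refine Finset.sum_congr rfl fun j _ => ?_
  rw [gradL_of]

theorem E0_add (y z : At k r) : E0 k r B ψ (y + z) = E0 k r B ψ y + E0 k r B ψ z := by
  unfold E0
  rw [map_add, map_add, map_add, map_add]
  abel

theorem D_tB_pow_mul (m : ℕ) (b : B) :
    KaehlerDifferential.D (PowerSeries k) B (tB ^ m * b) =
      tB ^ m • KaehlerDifferential.D (PowerSeries k) B b := by
  rw [← map_pow, ← Algebra.smul_def, Derivation.map_smul, algebraMap_smul]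

theorem E0_tau_pow_mul (m : ℕ) (y : At k r) :
    E0 k r B ψ (tau k r ^ m * y) = tB ^ m • E0 k r B ψ y := by
  unfold E0
  rw [map_mul, map_pow, psi_tau, D_tB_pow_mul, gradL_tau_pow_mul, map_smul, smul_sub]

theorem exists_E0_eq (m : ℕ) (y : At k r) :
    ∃ ω' : Ω[B⁄PowerSeries k], E0 k r B ψ y = tB ^ m • ω' := by
  obtain ⟨p, y', rfl⟩ := exists_decomp k r y m
  exact ⟨E0 k r B ψ y', by rw [E0_add, E0_of, zero_add, E0_tau_pow_mul]⟩

theorem D_psi (y : At k r) :
    KaehlerDifferential.D (PowerSeries k) B (ψ y) =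
      pi0 k r B ψ (gradL k r B ψ y) + E0 k r B ψ y := by
  unfold E0
  abel

/-- (A): `Ω` is generated by the `d x_j` modulo every power of `t`. -/
theorem exists_pi0_add (hψ : Function.Surjective ψ) (m : ℕ) (ω : Ω[B⁄PowerSeries k]) :
    ∃ (v : Fin r → B) (ω' : Ω[B⁄PowerSeries k]), ω = pi0 k r B ψ v + tB ^ m • ω' := by
  have hω : ω ∈ Submodule.span B (Set.range (KaehlerDifferential.D (PowerSeries k) B)) := by
    rw [KaehlerDifferential.span_range_derivation]
    exact Submodule.mem_top
  induction hω using Submodule.span_induction with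
  | mem x hx =>
    obtain ⟨b, rfl⟩ := hx
    obtain ⟨y, rfl⟩ := hψ b
    obtain ⟨ω', hω'⟩ := exists_E0_eq k r B ψ m y
    exact ⟨gradL k r B ψ y, ω', by rw [D_psi, hω']⟩
  | zero => exact ⟨0, 0, by rw [_root_.map_zero, smul_zero, add_zero]⟩
  | add x y _ _ hx hy =>
    obtain ⟨v, ω', rfl⟩ := hx
    obtain ⟨v', ω'', rfl⟩ := hy
    exact ⟨v + v', ω' + ω'', by rw [map_add, smul_add]; abel⟩
  | smul b x _ hx =>
    obtain ⟨v, ω', rfl⟩ := hx
    exact ⟨b • v, b • ω', by rw [map_smul, smul_add, smul_comm]⟩

variable (hker : RingHom.ker ψ.toRingHom = Ideal.span (Set.range a))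

include hker in
theorem psi_a (i : Fin c) : ψ (a i) = 0 := by
  have h : a i ∈ RingHom.ker ψ.toRingHom := by
    rw [hker]
    exact Ideal.subset_span ⟨i, rfl⟩
  exact h

include hker in
/-- (B): the Jacobian relations hold modulo every power of `t`. -/
theorem exists_pi0_iJ_eq (m : ℕ) (g : Fin c → B) :
    ∃ ω' : Ω[B⁄PowerSeries k], pi0 k r B ψ (iJ k r c a B ψ g) = tB ^ m • ω' := by
  choose w hw using fun i => exists_E0_eq k r B ψ m (a i)
  refine ⟨-∑ i, g i • w i, ?_⟩
  unfold iJ
  rw [Fintype.linearCombination_apply, map_sum, smul_neg, Finset.smul_sum, ← Finset.sum_neg_distrib]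
  refine Finset.sum_congr rfl fun i _ => ?_
  have h1 := D_psi k r B ψ (a i)
  rw [psi_a k r c a B ψ hker, _root_.map_zero] at h1
  rw [map_smul, eq_neg_of_add_eq_zero_left h1.symm, hw i, smul_neg, smul_comm]

end setting

end Groth.Agent.H8.FormalCI
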