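import Mathlib
import Groth.Agent.Lib.Helper8.FormalCI.Omega

/-!
# The derivation `B → coker(Jacobian)` and the relation module of `Ω_{B/R}` modulo powers of `t`
-/

set_option autoImplicit false
universe u

namespace Groth.Agent.H8.FormalCI

open AdicCompletion MvPolynomial

section setting

variable (k : Type u) [Field k] (r c : ℕ) (a : Fin c → At k r)
  (B : Type u) [CommRing B] [Algebra (PowerSeries k) B]
  (ψ : At k r →ₐ[PowerSeries k] B) (hψ : Function.Surjective ψ)
  (hker : RingHom.ker ψ.toRingHom = Ideal.span (Set.range a))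

local notation "tB" => algebraMap (PowerSeries k) B PowerSeries.X

/-- the cokernel of the Jacobian. -/
abbrev QJ := (Fin r → B) ⧸ LinearMap.range (iJ k r c a B ψ)

include hker in
theorem gradL_mem_range (z : At k r) (hz : ψ z = 0) :
    gradL k r B ψ z ∈ LinearMap.range (iJ k r c a B ψ) := by
  have hz' : z ∈ Ideal.span (Set.range a) := by rw [← hker]; exact hz
  obtain ⟨cf, rfl⟩ := (Ideal.mem_span_range_iff_exists_fun).mp hz'
  refine ⟨fun i => ψ (cf i), ?_⟩
  unfold iJ
  rw [Fintype.linearCombination_apply, map_sum]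
  refine Finset.sum_congr rfl fun i _ => ?_
  rw [gradL_mul, psi_a k r c a B ψ hker, zero_smul, add_zero]

/-- the derivation on `Ã`. -/
noncomputable def deltaT : At k r →ₗ[PowerSeries k] QJ k r c a B ψ :=
  ((LinearMap.range (iJ k r c a B ψ)).mkQ.restrictScalars (PowerSeries k)) ∘ₗ gradL k r B ψ

include hker in
theorem ker_le : LinearMap.ker ψ.toLinearMap ≤ LinearMap.ker (deltaT k r c a B ψ) := by
  intro z hz
  rw [LinearMap.mem_ker] at hz ⊢
  show Submodule.Quotient.mk (gradL k r B ψ z) = 0
  rw [Submodule.Quotient.mk_eq_zero]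
  exact gradL_mem_range k r c a B ψ hker z hz

/-- the derivation on `B`, as a linear map. -/
noncomputable def deltaL : B →ₗ[PowerSeries k] QJ k r c a B ψ :=
  ((LinearMap.ker ψ.toLinearMap).liftQ (deltaT k r c a B ψ) (ker_le k r c a B ψ hker)) ∘ₗ
    (ψ.toLinearMap.quotKerEquivOfSurjective hψ).symm.toLinearMap

theorem deltaL_psi (y : At k r) :
    deltaL k r c a B ψ hψ hker (ψ y) = Submodule.Quotient.mk (gradL k r B ψ y) := by
  unfold deltaL
  have h : (ψ.toLinearMap.quotKerEquivOfSurjective hψ).symm (ψ y) = Submodule.Quotient.mk y := by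
    rw [LinearEquiv.symm_apply_eq]
    rfl
  rw [LinearMap.comp_apply, LinearEquiv.coe_coe, h, Submodule.liftQ_apply]
  rfl

/-- the derivation `B → coker J`. -/
noncomputable def delta : Derivation (PowerSeries k) B (QJ k r c a B ψ) :=
  Derivation.mk' (deltaL k r c a B ψ hψ hker) (fun b b' => by
    obtain ⟨y, rfl⟩ := hψ b
    obtain ⟨y', rfl⟩ := hψ b'
    rw [← map_mul, deltaL_psi, deltaL_psi, deltaL_psi, gradL_mul, Submodule.Quotient.mk_add,
      Submodule.Quotient.mk_smul, Submodule.Quotient.mk_smul])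

theorem delta_psi (y : At k r) :
    delta k r c a B ψ hψ hker (ψ y) = Submodule.Quotient.mk (gradL k r B ψ y) :=
  deltaL_psi k r c a B ψ hψ hker y

/-- the induced map on differentials. -/
noncomputable def lam : Ω[B⁄PowerSeries k] →ₗ[B] QJ k r c a B ψ :=
  (delta k r c a B ψ hψ hker).liftKaehlerDifferential

theorem lam_pi0 (v : Fin r → B) :
    lam k r c a B ψ hψ hker (pi0 k r B ψ v) = Submodule.Quotient.mk v := by
  have h : ∀ j, lam k r c a B ψ hψ hker
      (KaehlerDifferential.D (PowerSeries k) B (xv k r B ψ j)) =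
      Submodule.Quotient.mk (Pi.single j 1) := by
    intro j
    unfold lam
    rw [Derivation.liftKaehlerDifferential_comp_D]
    unfold xv
    rw [delta_psi]
    congr 1
    funext l
    rw [gradL_of, pderiv_X]
    by_cases hl : l = j
    · subst hl
      simp
    · rw [Pi.single_apply, Pi.single_apply, if_neg (Ne.symm hl), if_neg hl, _root_.map_zero]
  unfold pi0
  rw [Fintype.linearCombination_apply, map_sum]
  simp_rw [map_smul, h]
  have h3 : v = ∑ j, v j • (Pi.single j (1 : B) : Fin r → B) := by
    funext l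
    simp [Finset.sum_apply, Pi.single_apply]
  have h4 : (Submodule.Quotient.mk v : QJ k r c a B ψ) =
      Submodule.mkQ (LinearMap.range (iJ k r c a B ψ))
        (∑ j, v j • (Pi.single j (1 : B) : Fin r → B)) := by
    rw [← h3]
    rfl
  rw [h4, map_sum]
  refine Finset.sum_congr rfl fun j _ => ?_
  rw [map_smul]
  rfl

include hψ hker in
/-- (C): relations among the `d x_j` modulo `t^m` come from the Jacobian modulo `t^m`. -/
theorem exists_eq_iJ_add (m : ℕ) (v : Fin r → B) (ω' : Ω[B⁄PowerSeries k])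
    (h : pi0 k r B ψ v = tB ^ m • ω') :
    ∃ (g : Fin c → B) (w : Fin r → B), v = iJ k r c a B ψ g + tB ^ m • w := by
  have h1 := lam_pi0 k r c a B ψ hψ hker v
  rw [h, map_smul] at h1
  obtain ⟨w, hw⟩ := Submodule.Quotient.mk_surjective _ (lam k r c a B ψ hψ hker ω')
  rw [← hw, ← Submodule.Quotient.mk_smul, eq_comm, Submodule.Quotient.eq] at h1
  obtain ⟨g, hg⟩ := h1
  exact ⟨g, w, by rw [hg]; abel⟩

end setting

end Groth.Agent.H8.FormalCI
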