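import Mathlib
import Groth.Prelude
import Groth.Agent.S15821
import Groth.Agent.Lib.Helper8.KosLoc.ClaimA
import Groth.Agent.Lib.Helper5.KosCot.A
import Groth.Agent.Lib.Helper8.H1LCI.Main
import Groth.Agent.Lib.Helper8.LCI.Jac1
import Groth.Agent.Lib.Helper8.FittExt.Main
import Groth.Agent.Lib.Helper8.FormalCI.Omega

/-!
# The Jacobian of a reduced complete intersection over a perfect field is injective;
the closed fibre of a formal complete intersection
-/

set_option autoImplicit false
universe u
open CategoryTheory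

namespace Groth.Agent.H8.FormalCI

open MvPolynomial Module

section jac0

variable (k : Type u) [Field k] [PerfectField k] (r c : ℕ) (B : Type u) [CommRing B]
    [Algebra k B] [IsReduced B]
    (φ : MvPolynomial (Fin r) k →ₐ[k] B) (hφ : Function.Surjective φ)
    (a : Fin c → MvPolynomial (Fin r) k)
    (ha : RingTheory.Sequence.IsWeaklyRegular (MvPolynomial (Fin r) k) (List.ofFn a))
    (hker : RingHom.ker φ.toRingHom = Ideal.span (Set.range a))

include hφ ha hker in
theorem jac0 (g : Fin c → B) (hg : ∀ j, ∑ i, g i * φ (pderiv j (a i)) = 0) : g = 0 := by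
  have hKR : LCI.IsKoszulRegularSeq _ (List.ofFn a) := (Groth.Agent.S15821.result _ _ ha).1
  have hlci : LCI.IsLCI k B := by
    refine ⟨Algebra.FiniteType.of_surjective φ hφ, r, φ, hφ, ?_⟩
    have h2 := Groth.Agent.H8.KosLoc.isKoszulRegularIdeal_ofList _ hKR
    have h3 : Ideal.ofList (List.ofFn a) = Ideal.span (Set.range a) := by
      unfold Ideal.ofList
      congr 1
      ext x
      simp [List.mem_ofFn]
    rw [hker, ← h3]
    exact h2
  haveI : Algebra.FiniteType k B := hlci.1
  haveI : IsNoetherianRing B := Algebra.FiniteType.isNoetherianRing k B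
  have hgs : ∀ 𝔓 : PrimeSpectrum B,
      (∀ 𝔔 : PrimeSpectrum B, 𝔔 ≤ 𝔓 →
          𝔔.asIdeal.comap (algebraMap k B) = 𝔓.asIdeal.comap (algebraMap k B) → 𝔔 = 𝔓) →
        𝔓 ∈ Algebra.smoothLocus k B := by
    intro 𝔓 h
    apply Groth.Agent.H8.FittExt.mem_smoothLocus_of_minimal
    refine ⟨⟨𝔓.isPrime, bot_le⟩, fun 𝔮 h𝔮 hle => ?_⟩
    haveI := h𝔮.1
    have h1 := h ⟨𝔮, h𝔮.1⟩ hle (by
      show Ideal.comap (algebraMap k B) 𝔮 = Ideal.comap (algebraMap k B) 𝔓.asIdeal
      rw [Ideal.eq_bot_of_prime (Ideal.comap (algebraMap k B) 𝔮),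
        Ideal.eq_bot_of_prime (Ideal.comap (algebraMap k B) 𝔓.asIdeal)])
    rw [← h1]
  have hfe : ∀ x, MvPolynomial.aeval (fun i => φ (X i)) x = φ x := fun x =>
    (AlgHom.congr_fun (MvPolynomial.aeval_unique φ) x).symm
  have hsurj : Function.Surjective (MvPolynomial.aeval (R := k) (fun i => φ (X i))) := by
    intro b
    obtain ⟨x, rfl⟩ := hφ b
    exact ⟨x, hfe x⟩
  let G : Algebra.Generators k B (Fin r) := Algebra.Generators.ofSurjective _ hsurj
  have hkerE : G.toExtension.ker = Ideal.span (Set.range a) := by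
    rw [← hker]
    ext x
    show algebraMap G.toExtension.Ring B x = 0 ↔ φ x = 0
    rw [show algebraMap G.toExtension.Ring B x = φ x from hfe x]
  have hamem : ∀ j, a j ∈ G.toExtension.ker := fun j => hkerE ▸ Ideal.subset_span ⟨j, rfl⟩
  have hH1 : Subsingleton (Algebra.H1Cotangent k B) :=
    Groth.Agent.H8.H1LCI.subsingleton_h1Cotangent k B hlci hgs
  have hH1' : Subsingleton (LinearMap.ker G.toExtension.cotangentComplex) :=
    G.equivH1Cotangent.toEquiv.subsingleton
  have hi : Function.Injective G.toExtension.cotangentComplex := by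
    rw [injective_iff_map_eq_zero]
    intro x hx
    exact congrArg Subtype.val
      (Subsingleton.elim (⟨x, hx⟩ : LinearMap.ker G.toExtension.cotangentComplex) 0)
  let cc : Fin c → G.toExtension.Cotangent :=
    fun j => Algebra.Extension.Cotangent.mk ⟨a j, hamem j⟩
  obtain ⟨b0, hb0⟩ := Groth.Agent.Lib.Helper5.KosCot.main (I := G.toExtension.ker) c
    (fun j => (⟨a j, hamem j⟩ : G.toExtension.ker)) hKR hkerE.symm
  have hccli : LinearIndependent B cc := by
    rw [Fintype.linearIndependent_iff]
    intro g hg j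
    choose p hp using fun j => G.toExtension.algebraMap_surjective (g j)
    have h1 : ∑ j, p j • cc j = 0 := by
      rw [← hg]
      refine Finset.sum_congr rfl fun j _ => ?_
      rw [← hp j, algebraMap_smul]
    have h2 := congrArg G.toExtension.cotangentEquivCotangentKer h1
    rw [map_sum, map_zero] at h2
    have h3 : ∑ j, (Ideal.Quotient.mk G.toExtension.ker (p j)) • b0 j = 0 := by
      rw [← h2]
      refine Finset.sum_congr rfl fun j _ => ?_
      rw [map_smul, hb0 j]
      rfl
    have h4 := (Fintype.linearIndependent_iff.mp b0.linearIndependent) _ h3 j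
    rw [← hp j]
    exact (RingHom.mem_ker).mp (Ideal.Quotient.eq_zero_iff_mem.mp h4)
  have key : G.toExtension.cotangentComplex (∑ i, g i • cc i) = 0 := by
    rw [map_sum]
    have h1 : ∀ i, G.toExtension.cotangentComplex (g i • cc i) =
        ∑ j, (g i * φ (pderiv j (a i))) • G.cotangentSpaceBasis j := by
      intro i
      rw [map_smul, Groth.Agent.H8.LCI.cotangentComplex_mk_eq_sum, Finset.smul_sum]
      refine Finset.sum_congr rfl fun j _ => ?_
      rw [smul_smul]
      congr 2
      exact hfe _
    simp_rw [h1]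
    rw [Finset.sum_comm]
    refine Finset.sum_eq_zero fun j _ => ?_
    rw [← Finset.sum_smul, hg j, zero_smul]
  have h5 : ∑ i, g i • cc i = 0 := hi (key.trans (map_zero _).symm)
  funext i
  exact Fintype.linearIndependent_iff.mp hccli g h5 i

end jac0

section level0

open AdicCompletion

variable (k : Type u) [Field k] [PerfectField k] (r c : ℕ) (a : Fin c → At k r)
  (B : Type u) [CommRing B] [Algebra (PowerSeries k) B]
  (ψ : At k r →ₐ[PowerSeries k] B) (hψ : Function.Surjective ψ)
  (hker : RingHom.ker ψ.toRingHom = Ideal.span (Set.range a))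
  (hreg0 : RingTheory.Sequence.IsRegular (At k r ⧸ Ideal.span {tau k r ^ (0 + 1)})
      ((List.ofFn a).map (Ideal.Quotient.mk (Ideal.span {tau k r ^ (0 + 1)}))))
  [IsReduced (B ⧸ Ideal.span {algebraMap (PowerSeries k) B PowerSeries.X})]

local notation "tB" => algebraMap (PowerSeries k) B PowerSeries.X
local notation "B₀" => (B ⧸ Ideal.span {algebraMap (PowerSeries k) B PowerSeries.X})
local notation "ρ" => Ideal.Quotient.mk (Ideal.span {algebraMap (PowerSeries k) B PowerSeries.X})

theorem red_C (s : PowerSeries k) :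
    red k r (C s) = C (PowerSeries.constantCoeff s) := MvPolynomial.map_C _ _

theorem red_X (l : Fin r) : red k r (X l) = X l := MvPolynomial.map_X _ _

include hψ hker hreg0 in
/-- the Jacobian is injective modulo `t`. -/
theorem level0 (g : Fin c → B) (h : Fin r → B) (hg : iJ k r c a B ψ g = tB • h) :
    ∃ g' : Fin c → B, g = tB • g' := by
  letI algk : Algebra k B₀ :=
    RingHom.toAlgebra ((ρ).comp ((algebraMap (PowerSeries k) B).comp (PowerSeries.C (R := k))))
  have halg : ∀ s : k, algebraMap k B₀ s = ρ (algebraMap (PowerSeries k) B (PowerSeries.C s)) :=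
    fun s => rfl
  have htB : ρ tB = 0 :=
    Ideal.Quotient.eq_zero_iff_mem.mpr (Ideal.mem_span_singleton_self _)
  let φ₀ : MvPolynomial (Fin r) k →ₐ[k] B₀ := aeval (fun j => ρ (xv k r B ψ j))
  have hF1a : ∀ p : A0 k r, φ₀ (red k r p) = ρ (aeval (xv k r B ψ) p) := by
    intro p
    induction p using MvPolynomial.induction_on with
    | C s =>
      rw [red_C, aeval_C, aeval_C, halg, eq_comm, ← sub_eq_zero, ← map_sub, ← map_sub,
        Ideal.Quotient.eq_zero_iff_mem]
      have h1 : PowerSeries.X ∣ s - PowerSeries.C (PowerSeries.constantCoeff s) := by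
        rw [PowerSeries.X_dvd_iff, map_sub, PowerSeries.constantCoeff_C, sub_self]
      obtain ⟨s', hs'⟩ := h1
      rw [hs', map_mul]
      exact Ideal.mul_mem_right _ _ (Ideal.mem_span_singleton_self _)
    | add p q hp hq => rw [map_add, map_add, map_add, map_add, hp, hq]
    | mul_X p l hp =>
      rw [map_mul, map_mul, map_mul, map_mul, hp, red_X, aeval_X, aeval_X]
  have hF1 : ∀ y : At k r, φ₀ (eps k r y) = ρ (ψ y) := by
    intro y
    obtain ⟨p, y', rfl⟩ := exists_decomp k r y 1
    have e1 : eps k r (of (I0 k r) (A0 k r) p + tau k r ^ 1 * y') = red k r p := by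
      rw [map_add, map_mul, pow_one, eps_tau, zero_mul, add_zero, eps_of]
    have e2 : ρ (ψ (of (I0 k r) (A0 k r) p + tau k r ^ 1 * y')) =
        ρ (aeval (xv k r B ψ) p) := by
      rw [map_add, map_mul, pow_one, psi_tau, psi_of, map_add, map_mul, htB, zero_mul, add_zero]
    rw [e1, e2, hF1a]
  have hφ₀ : Function.Surjective φ₀ := by
    intro b₀
    obtain ⟨b, rfl⟩ := Ideal.Quotient.mk_surjective b₀
    obtain ⟨y, rfl⟩ := hψ b
    exact ⟨eps k r y, hF1 y⟩
  have hker₀ : RingHom.ker φ₀.toRingHom =
      Ideal.span (Set.range fun i => eps k r (a i)) := by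
    apply le_antisymm
    · intro q hq
      obtain ⟨y, rfl⟩ := eps_surjective k r q
      have h1 : ρ (ψ y) = 0 := by
        rw [← hF1]
        exact hq
      rw [Ideal.Quotient.eq_zero_iff_mem, Ideal.mem_span_singleton'] at h1
      obtain ⟨b, hb⟩ := h1
      obtain ⟨y'', rfl⟩ := hψ b
      have h2 : y - y'' * tau k r ∈ Ideal.span (Set.range a) := by
        rw [← hker]
        show ψ (y - y'' * tau k r) = 0
        rw [map_sub, map_mul, psi_tau, hb, sub_self]
      have h3 : eps k r y = eps k r (y - y'' * tau k r) := by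
        rw [map_sub, map_mul, eps_tau, mul_zero, sub_zero]
      rw [h3]
      have h4 := Ideal.mem_map_of_mem (eps k r) h2
      rw [Ideal.map_span, ← Set.range_comp] at h4
      exact h4
    · rw [Ideal.span_le]
      rintro _ ⟨i, rfl⟩
      show φ₀ (eps k r (a i)) = 0
      rw [hF1, psi_a k r c a B ψ hker, _root_.map_zero]
  have hreg := isWeaklyRegular_eps k r a hreg0
  have hJ : ∀ i j, ρ (gradL k r B ψ (a i) j) = φ₀ (pderiv j (eps k r (a i))) := by
    intro i j
    rw [gradL_apply, ← hF1, eps_pd]
  have h0 : (fun i => ρ (g i)) = 0 := by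
    apply jac0 k r c B₀ φ₀ hφ₀ (fun i => eps k r (a i)) hreg hker₀
    intro j
    have h1 := congrFun hg j
    unfold iJ at h1
    rw [Fintype.linearCombination_apply, Finset.sum_apply] at h1
    have h2 := congrArg (ρ) h1
    rw [map_sum] at h2
    simp only [Pi.smul_apply, smul_eq_mul, map_mul] at h2
    rw [htB, zero_mul] at h2
    rw [← h2]
    refine Finset.sum_congr rfl fun i _ => ?_
    rw [hJ]
  have h1 : ∀ i, ∃ b, g i = tB * b := by
    intro i
    have h2 := congrFun h0 i
    rw [Pi.zero_apply, Ideal.Quotient.eq_zero_iff_mem, Ideal.mem_span_singleton'] at h2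
    obtain ⟨b, hb⟩ := h2
    exact ⟨b, by rw [← hb, mul_comm]⟩
  choose g' hg' using h1
  exact ⟨g', funext fun i => by rw [Pi.smul_apply, smul_eq_mul, hg' i]⟩

end level0

end Groth.Agent.H8.FormalCI
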