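import Mathlib
import Groth.Prelude
import Groth.Agent.Lib.Helper8.FormalCI.Lambda
import Groth.Agent.Lib.Helper8.FormalCI.Level0
import Groth.Agent.Lib.Helper8.FormalCI.Abstract

/-!
# Formal complete intersections over `k[[t]]`: the completed differentials have a two-term
free resolution by the Jacobian; consequences for Fitting ideals and `T¹`
-/

set_option autoImplicit false
universe u
open CategoryTheory

namespace Groth.Agent.H8.FormalCI

open AdicCompletion MvPolynomial TensorProduct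

section main

variable (k : Type u) [Field k] [PerfectField k] (r c : ℕ) (a : Fin c → At k r)
  (B : Type u) [CommRing B] [Algebra (PowerSeries k) B] [IsNoetherianRing B]
  [IsAdicComplete (Ideal.span {algebraMap (PowerSeries k) B PowerSeries.X}) B]
  [Module.Flat (PowerSeries k) B]
  (ψ : At k r →ₐ[PowerSeries k] B) (hψ : Function.Surjective ψ)
  (hker : RingHom.ker ψ.toRingHom = Ideal.span (Set.range a))
  (hreg0 : RingTheory.Sequence.IsRegular (At k r ⧸ Ideal.span {tau k r ^ (0 + 1)})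
      ((List.ofFn a).map (Ideal.Quotient.mk (Ideal.span {tau k r ^ (0 + 1)}))))
  [IsReduced (B ⧸ Ideal.span {algebraMap (PowerSeries k) B PowerSeries.X})]

local notation "tB" => algebraMap (PowerSeries k) B PowerSeries.X
local notation "IB" => Ideal.span {algebraMap (PowerSeries k) B PowerSeries.X}
local notation "Ωh" => AdicCompletion (Ideal.span {algebraMap (PowerSeries k) B PowerSeries.X})
  (KaehlerDifferential (PowerSeries k) B)

omit [PerfectField k] [IsNoetherianRing B]
  [IsAdicComplete (Ideal.span {algebraMap (PowerSeries k) B PowerSeries.X}) B]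
  [IsReduced (B ⧸ Ideal.span {algebraMap (PowerSeries k) B PowerSeries.X})] in
theorem tB_regular : IsSMulRegular B tB :=
  IsSMulRegular.of_flat (isRegular_of_ne_zero PowerSeries.X_ne_zero).left.isSMulRegular

omit [IsNoetherianRing B]
  [IsAdicComplete (Ideal.span {algebraMap (PowerSeries k) B PowerSeries.X}) B] in
include hψ hker hreg0 in
theorem level_n (n : ℕ) : ∀ (g : Fin c → B) (h : Fin r → B),
    iJ k r c a B ψ g = tB ^ n • h → ∃ g' : Fin c → B, g = tB ^ n • g' := by
  induction n with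
  | zero =>
    intro g h _
    exact ⟨g, by rw [pow_zero, one_smul]⟩
  | succ n ih =>
    intro g h hg
    obtain ⟨g₁, rfl⟩ := level0 k r c a B ψ hψ hker hreg0 g (tB ^ n • h)
      (by rw [hg, pow_succ', mul_smul])
    have h1 : iJ k r c a B ψ g₁ = tB ^ n • h := by
      rw [map_smul, pow_succ', mul_smul] at hg
      funext j
      exact tB_regular k B (congrFun hg j)
    obtain ⟨g₂, rfl⟩ := ih g₁ h h1
    exact ⟨g₂, by rw [pow_succ', mul_smul]⟩

include hψ hker hreg0 in
theorem iJ_injective : Function.Injective (iJ k r c a B ψ) := by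
  rw [injective_iff_map_eq_zero]
  intro g hg
  funext i
  refine IsHausdorff.haus (inferInstance : IsHausdorff IB B) (g i) (fun n => ?_)
  rw [SModEq.zero]
  obtain ⟨g', rfl⟩ := level_n k r c a B ψ hψ hker hreg0 n g 0 (by rw [hg, smul_zero])
  exact Submodule.smul_mem_smul (Ideal.pow_mem_pow (Ideal.mem_span_singleton_self _) n)
    Submodule.mem_top

omit [PerfectField k] [Module.Flat (PowerSeries k) B]
  [IsReduced (B ⧸ Ideal.span {algebraMap (PowerSeries k) B PowerSeries.X})] in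
theorem isHausdorff_QJ : IsHausdorff IB (QJ k r c a B ψ) :=
  IsHausdorff.of_le_jacobson _ _ (IsAdicComplete.le_jacobson_bot _)

/-- the map `B^r → Ω̂`. -/
noncomputable def piH : (Fin r → B) →ₗ[B] Ωh :=
  (of IB (KaehlerDifferential (PowerSeries k) B)).comp (pi0 k r B ψ)

omit [PerfectField k] [Module.Flat (PowerSeries k) B]
  [IsReduced (B ⧸ Ideal.span {algebraMap (PowerSeries k) B PowerSeries.X})] in
include hψ hker in
theorem exact_iJ_piH : Function.Exact (iJ k r c a B ψ) (piH k r B ψ) := by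
  intro v
  constructor
  · intro hv
    have h1 : ∀ n, ∃ ω' : Ω[B⁄PowerSeries k], pi0 k r B ψ v = tB ^ n • ω' := by
      intro n
      have h2 : (of IB (KaehlerDifferential (PowerSeries k) B) (pi0 k r B ψ v)).val n = 0 := by
        rw [show of IB (KaehlerDifferential (PowerSeries k) B) (pi0 k r B ψ v) = 0 from hv]
        rfl
      rw [of_apply, Submodule.mkQ_apply, Submodule.Quotient.mk_eq_zero,
        Ideal.span_singleton_pow, Submodule.ideal_span_singleton_smul,
        Submodule.mem_smul_pointwise_iff_exists] at h2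
      obtain ⟨ω', -, h3⟩ := h2
      exact ⟨ω', h3.symm⟩
    have h3 : (Submodule.Quotient.mk v : QJ k r c a B ψ) = 0 := by
      refine IsHausdorff.haus (isHausdorff_QJ k r c a B ψ) _ (fun n => ?_)
      rw [SModEq.zero]
      obtain ⟨ω', hω'⟩ := h1 n
      obtain ⟨g, w, rfl⟩ := exists_eq_iJ_add k r c a B ψ hψ hker n v ω' hω'
      rw [Submodule.Quotient.mk_add, (Submodule.Quotient.mk_eq_zero _).mpr (LinearMap.mem_range_self _ g), zero_add,
        Submodule.Quotient.mk_smul]
      exact Submodule.smul_mem_smul (Ideal.pow_mem_pow (Ideal.mem_span_singleton_self _) n)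
        Submodule.mem_top
    exact (Submodule.Quotient.mk_eq_zero _).mp h3
  · rintro ⟨g, rfl⟩
    refine IsHausdorff.haus (inferInstance : IsHausdorff IB Ωh) _ (fun n => ?_)
    rw [SModEq.zero]
    obtain ⟨ω', hω'⟩ := exists_pi0_iJ_eq k r c a B ψ hker n g
    show of IB (KaehlerDifferential (PowerSeries k) B) (pi0 k r B ψ (iJ k r c a B ψ g)) ∈ _
    rw [hω', map_smul]
    exact Submodule.smul_mem_smul (Ideal.pow_mem_pow (Ideal.mem_span_singleton_self _) n)
      Submodule.mem_top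

omit [PerfectField k] [Module.Flat (PowerSeries k) B] [IsNoetherianRing B]
  [IsReduced (B ⧸ Ideal.span {algebraMap (PowerSeries k) B PowerSeries.X})] in
include hψ in
theorem piH_surjective : Function.Surjective (piH k r B ψ) := by
  have h1 : Function.Surjective
      (Submodule.mkQ (IB • ⊤ : Submodule B (KaehlerDifferential (PowerSeries k) B)) ∘ₗ
        pi0 k r B ψ) := by
    intro q
    obtain ⟨ω, rfl⟩ := Submodule.mkQ_surjective _ q
    obtain ⟨v, ω', rfl⟩ := exists_pi0_add k r B ψ hψ 1 ω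
    refine ⟨v, ?_⟩
    rw [LinearMap.comp_apply, map_add, pow_one]
    have h2 : Submodule.mkQ (IB • ⊤ : Submodule B (KaehlerDifferential (PowerSeries k) B))
        (tB • ω') = 0 := by
      rw [Submodule.mkQ_apply, Submodule.Quotient.mk_eq_zero]
      exact Submodule.smul_mem_smul (Ideal.mem_span_singleton_self _) Submodule.mem_top
    rw [h2, add_zero]
  have h2 := AdicCompletion.map_surjective_of_mkQ_comp_surjective (I := IB) h1
  haveI := isPrecomplete_pi tB r
  intro y
  obtain ⟨x', rfl⟩ := h2 y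
  obtain ⟨v, rfl⟩ := AdicCompletion.of_surjective IB (Fin r → B) x'
  exact ⟨v, (AdicCompletion.map_of IB (pi0 k r B ψ) v).symm⟩

include hψ hker hreg0 in
/-- S16191 and finite generation of `T¹`. -/
theorem main_fitt :
    Fitt.ideal B Ωh (r - c) =
      Fitt.ideal B (Abelian.Ext.{u} (ModuleCat.of B Ωh) (ModuleCat.of B B) 1) 0 ∧
    ∃ y : Fin c → Abelian.Ext.{u} (ModuleCat.of B Ωh) (ModuleCat.of B B) 1,
      Submodule.span B (Set.range y) = ⊤ :=
  fitt_of_presentation r c (Pi.basisFun B (Fin c)) (Pi.basisFun B (Fin r))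
    (iJ k r c a B ψ) (piH k r B ψ) (iJ_injective k r c a B ψ hψ hker hreg0)
    (piH_surjective k r B ψ hψ) (exact_iJ_piH k r c a B ψ hψ hker)

include hψ hker hreg0 in
/-- S16193. -/
theorem main_ann :
    (∃ κ : ℕ, tB ^ κ ∈ Fitt.ideal B Ωh (r - c)) ↔
      (∃ m : ℕ, ∀ x : Abelian.Ext.{u} (ModuleCat.of B Ωh) (ModuleCat.of B B) 1,
        (tB ^ m) • x = 0) := by
  obtain ⟨hF, y, hy⟩ := main_fitt k r c a B ψ hψ hker hreg0
  rw [hF]
  constructor
  · rintro ⟨κ, hκ⟩
    exact ⟨κ, fun x => Module.mem_annihilator.mp (fitt_zero_le_annihilator hκ) x⟩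
  · rintro ⟨m, hm⟩
    exact ⟨m * c, by rw [pow_mul]; exact pow_mem_fitt_zero c y hy (tB ^ m) hm⟩

include hψ hker hreg0 in
/-- S16192. -/
theorem main_bc (n : ℕ) :
    Nonempty ((B ⧸ Ideal.span {tB ^ (n + 1)}) ⊗[B]
        Abelian.Ext.{u} (ModuleCat.of B Ωh) (ModuleCat.of B B) 1
      ≃ₗ[B ⧸ Ideal.span {tB ^ (n + 1)}]
      Abelian.Ext.{u}
        (ModuleCat.of (B ⧸ Ideal.span {tB ^ (n + 1)})
          (KaehlerDifferential (PowerSeries k) (B ⧸ Ideal.span {tB ^ (n + 1)})))
        (ModuleCat.of (B ⧸ Ideal.span {tB ^ (n + 1)}) (B ⧸ Ideal.span {tB ^ (n + 1)})) 1) := by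
  obtain ⟨hθi, hθs⟩ := mapBaseChange_bijective_of_eq (PowerSeries k) B
    (Ideal.span {PowerSeries.X ^ (n + 1)}) (Ideal.span {tB ^ (n + 1)})
    (by rw [Ideal.map_span, Set.image_singleton, map_pow])
  let θ : (B ⧸ Ideal.span {tB ^ (n + 1)}) ⊗[B] Ω[B⁄PowerSeries k] →ₗ[B ⧸ Ideal.span {tB ^ (n + 1)}]
      Ω[(B ⧸ Ideal.span {tB ^ (n + 1)})⁄PowerSeries k] :=
    KaehlerDifferential.mapBaseChange (PowerSeries k) B (B ⧸ Ideal.span {tB ^ (n + 1)})
  let π' : (B ⧸ Ideal.span {tB ^ (n + 1)}) ⊗[B] (Fin r → B) →ₗ[B ⧸ Ideal.span {tB ^ (n + 1)}]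
      Ω[(B ⧸ Ideal.span {tB ^ (n + 1)})⁄PowerSeries k] :=
    θ ∘ₗ (pi0 k r B ψ).baseChange (B ⧸ Ideal.span {tB ^ (n + 1)})
  have hπbs : Function.Surjective
      ((pi0 k r B ψ).baseChange (B ⧸ Ideal.span {tB ^ (n + 1)})) := by
    intro z
    obtain ⟨ω, rfl⟩ := exists_one_tmul _ z
    obtain ⟨v, ω', rfl⟩ := exists_pi0_add k r B ψ hψ (n + 1) ω
    refine ⟨1 ⊗ₜ v, ?_⟩
    rw [LinearMap.baseChange_tmul, TensorProduct.tmul_add,
      (one_tmul_eq_zero_iff (tB ^ (n + 1)) (tB ^ (n + 1) • ω')).mpr ⟨ω', rfl⟩, add_zero]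
  have hπ' : Function.Surjective π' := hθs.comp hπbs
  have hexbc : Function.Exact ((iJ k r c a B ψ).baseChange (B ⧸ Ideal.span {tB ^ (n + 1)}))
      ((pi0 k r B ψ).baseChange (B ⧸ Ideal.span {tB ^ (n + 1)})) := by
    intro z
    obtain ⟨v, rfl⟩ := exists_one_tmul _ z
    rw [LinearMap.baseChange_tmul]
    constructor
    · intro h
      obtain ⟨ω', hω'⟩ := (one_tmul_eq_zero_iff _ _).mp h
      obtain ⟨g, w, rfl⟩ := exists_eq_iJ_add k r c a B ψ hψ hker (n + 1) v ω' hω'.symm
      refine ⟨1 ⊗ₜ g, ?_⟩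
      rw [LinearMap.baseChange_tmul, TensorProduct.tmul_add,
        (one_tmul_eq_zero_iff (tB ^ (n + 1)) (tB ^ (n + 1) • w)).mpr ⟨w, rfl⟩, add_zero]
    · rintro ⟨z₁, hz₁⟩
      obtain ⟨g, rfl⟩ := exists_one_tmul _ z₁
      rw [LinearMap.baseChange_tmul] at hz₁
      have h2 := congrArg ((pi0 k r B ψ).baseChange (B ⧸ Ideal.span {tB ^ (n + 1)})) hz₁
      rw [LinearMap.baseChange_tmul, LinearMap.baseChange_tmul] at h2
      rw [← h2]
      obtain ⟨ω', hω'⟩ := exists_pi0_iJ_eq k r c a B ψ hker (n + 1) g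
      exact (one_tmul_eq_zero_iff _ _).mpr ⟨ω', hω'.symm⟩
  have hex' : Function.Exact ((iJ k r c a B ψ).baseChange (B ⧸ Ideal.span {tB ^ (n + 1)})) π' := by
    intro y
    rw [← hexbc y]
    show θ ((pi0 k r B ψ).baseChange (B ⧸ Ideal.span {tB ^ (n + 1)}) y) = 0 ↔ _
    constructor
    · intro h
      exact hθi (h.trans (_root_.map_zero θ).symm)
    · intro h
      rw [h, _root_.map_zero]
  have hinj : Function.Injective
      ((iJ k r c a B ψ).baseChange (B ⧸ Ideal.span {tB ^ (n + 1)})) := by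
    rw [injective_iff_map_eq_zero]
    intro z hz
    obtain ⟨g, rfl⟩ := exists_one_tmul _ z
    rw [LinearMap.baseChange_tmul] at hz
    obtain ⟨h, hh⟩ := (one_tmul_eq_zero_iff _ _).mp hz
    obtain ⟨g', rfl⟩ := level_n k r c a B ψ hψ hker hreg0 (n + 1) g h hh.symm
    exact (one_tmul_eq_zero_iff _ _).mpr ⟨g', rfl⟩
  exact baseChange_ext_one (B ⧸ Ideal.span {tB ^ (n + 1)}) (iJ k r c a B ψ) (piH k r B ψ)
    (iJ_injective k r c a B ψ hψ hker hreg0) (piH_surjective k r B ψ hψ)
    (exact_iJ_piH k r c a B ψ hψ hker) π' hπ' hinj hex'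

end main

end Groth.Agent.H8.FormalCI
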